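import Groth.Agent.Lib.Gen50.Stalk
import Groth.Agent.Lib.EtSite.AcyclicCrit
import Groth.Agent.Lib.RpushStalk50.Ident
import Groth.Agent.Lib.Henselian.StrictHenselization
import Groth.Agent.S0621
import Groth.Agent.S0642
import Groth.Agent.S14451
import Groth.Agent.S0537
import Groth.Prelude.Def_EtAcyc
import Mathlib.FieldTheory.PurelyInseparable.Basic

/-!
# Geometric fibres of acyclic morphisms
-/

set_option autoImplicit false
set_option backward.isDefEq.respectTransparency false
set_option linter.style.haveILetI false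
set_option linter.unusedSectionVars false

universe u

open CategoryTheory CategoryTheory.Limits AlgebraicGeometry Opposite

noncomputable section

namespace Groth.Agent.Lib.GeomFib50.Main

open Groth.Agent.Lib.EtSite Groth.Agent.Lib.EtSite.Basic Groth.Agent.Lib.EtGerm.Basic
open Groth.Agent.Lib.EtLim50 Groth.Agent.Lib.PBC50 Groth.Agent.Lib.RpushStalk50
open Groth.Agent.Lib.LocAcyc50 Groth.Agent.Lib.LCStrict50.Const

/-- Cohomology of isomorphic sheaves. -/
def hIso {X : Scheme.{u}} {F G : EtCoh.Ab X} (e : F ≅ G) (q : ℕ) : EtCoh.H X F q ≃ EtCoh.H X G q :=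
  ((EtCoh.HF X q).mapIso e).addCommGroupIsoToAddEquiv.toEquiv

/-- A scheme whose constants are all the sections is nonempty and connected. -/
theorem connected_of_csec {Z : Scheme.{u}} (M : AddCommGrpCat.{u + 1}) (hM : ∃ m : M, m ≠ 0)
    (hb : Function.Bijective (csec (X := Z) M (EtCoh.top Z))) : Nonempty Z ∧ ConnectedSpace Z := by
  obtain ⟨m, hm⟩ := hM
  have hne : Nonempty Z := by
    by_contra h
    haveI : IsEmpty Z := not_nonempty_iff.1 h
    refine hm (hb.1 ((Stalk.sections_ext_of_germ _ _ _ (fun x => isEmptyElim (α := Z) x)).trans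
      (map_zero (csec (X := Z) M (EtCoh.top Z))).symm))
  refine ⟨hne, connectedSpace_iff_clopen.2 ⟨hne, fun A hA => ?_⟩⟩
  by_contra hAB
  push Not at hAB
  let U : Z.Opens := ⟨A, hA.isOpen⟩
  let V : Z.Opens := ⟨Aᶜ, hA.compl.isOpen⟩
  obtain ⟨u, hu⟩ := hAB.1
  obtain ⟨v, hv⟩ := Set.nonempty_compl.2 hAB.2
  let UE : Z.Etale := Scheme.Etale.mk U.ι
  let VE : Z.Etale := Scheme.Etale.mk V.ι
  let W : ULift.{u + 1} Bool → Z.Etale := fun b => bif b.down then UE else VE
  let g : ∀ b, W b ⟶ EtCoh.top Z := fun b => (EtCore.topIsTerminal Z).from (W b)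
  have hdis : ∀ {P : Z.Etale}, (P ⟶ UE) → (P ⟶ VE) → IsEmpty P.left := fun {P} p p' => ⟨fun z => by
    have e₁ : P.hom.base z ∈ A := by
      rw [← MorphismProperty.Over.w p]
      exact (p.left.base z : U).2
    have e₂ : P.hom.base z ∈ Aᶜ := by
      rw [← MorphismProperty.Over.w p']
      exact (p'.left.base z : V).2
    exact e₂ e₁⟩
  have hS : Sieve.ofArrows W g ∈ Z.smallEtaleTopology (EtCoh.top Z) := by
    rw [mem_topology_iff]
    intro z
    by_cases hz : z ∈ A
    · exact ⟨UE, (EtCore.topIsTerminal Z).from UE, Sieve.ofArrows_mk W g ⟨true⟩, ⟨z, hz⟩,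
        congrArg (fun k => k.base (⟨z, hz⟩ : U))
          (MorphismProperty.Over.w ((EtCore.topIsTerminal Z).from UE) : _ ≫ 𝟙 _ = _)⟩
    · exact ⟨VE, (EtCore.topIsTerminal Z).from VE, Sieve.ofArrows_mk W g ⟨false⟩, ⟨z, hz⟩,
        congrArg (fun k => k.base (⟨z, hz⟩ : V))
          (MorphismProperty.Over.w ((EtCore.topIsTerminal Z).from VE) : _ ≫ 𝟙 _ = _)⟩
  let mm : ULift.{u + 1} Bool → M := fun b => bif b.down then m else 0
  let F := cst Z M
  obtain ⟨s, hs, -⟩ := (Presieve.isSheafFor_arrows_iff (F.obj ⋙ forget AddCommGrpCat.{u + 1}) g).1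
    ((Presieve.isSheafFor_iff_generate _).2
      (((isSheaf_iff_isSheaf_of_type _ _).1 (Presheaf.isSheaf_comp_of_isSheaf _ F.obj
        (forget AddCommGrpCat.{u + 1}) F.property)) _ hS))
    (fun b => csec M (W b) (mm b)) (fun a b P ga gb _ => by
      change F.obj.map ga.op (csec M (W a) (mm a)) = F.obj.map gb.op (csec M (W b) (mm b))
      rw [res_csec, res_csec]
      obtain ⟨a⟩ := a; obtain ⟨b⟩ := b
      cases a <;> cases b <;> first
        | rfl
        | (haveI : IsEmpty P.left := by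
            first
              | exact hdis ga gb
              | exact hdis gb ga
           exact Stalk.sections_ext _ _ _ (fun x => isEmptyElim (α := P.left) x)))
  obtain ⟨m', rfl⟩ := hb.2 s
  have key : ∀ (b : ULift.{u + 1} Bool) (z : (W b).left), m' = mm b := by
    intro b z
    let η := Push.algPoint (W b).left z ≫ (W b).hom
    refine sub_eq_zero.1 (eq_zero_of_germ_csec M η (W b)
      (mkFiber η (W b) (Push.algPoint (W b).left z) rfl) _ ?_)
    have h2 : csec M (W b) m' = csec M (W b) (mm b) := (res_csec M (g b) m').symm.trans (hs b)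
    refine (congrArg _ ((map_sub (csec M (W b)) m' (mm b)).trans (sub_eq_zero.2 h2))).trans ?_
    exact map_zero _
  exact hm ((key ⟨true⟩ ⟨u, hu⟩).symm.trans (key ⟨false⟩ ⟨v, hv⟩))

/-- Finitely many sections and a point force all sections to be constant. -/
theorem csec_bijective_of_card {Z : Scheme.{u}} (M : AddCommGrpCat.{u + 1}) [Finite M]
    (hM : ∃ m : M, m ≠ 0) (e : EtCoh.H Z (cst Z M) 0 ≃ M) :
    Function.Bijective (csec (X := Z) M (EtCoh.top Z)) := by
  let e' : EtCoh.sect (cst Z M) (EtCoh.top Z) ≃ M :=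
    (Sheaf.H.equiv₀ (cst Z M) (EtCore.topIsTerminal Z)).toEquiv.symm.trans e
  haveI : Finite (EtCoh.sect (cst Z M) (EtCoh.top Z)) := Finite.of_equiv _ e'.symm
  have hne : Nonempty Z := by
    by_contra h
    haveI : IsEmpty Z := not_nonempty_iff.1 h
    obtain ⟨m, hm⟩ := hM
    exact hm ((e'.symm.injective ((Stalk.sections_ext_of_germ _ _ _
      (fun x => isEmptyElim (α := Z) x)))) : m = 0)
  obtain ⟨z⟩ := hne
  have hinj : Function.Injective (csec (X := Z) M (EtCoh.top Z)) :=
    (injective_iff_map_eq_zero _).2 fun m hm => eq_zero_of_germ_csec M (Push.algPoint Z z) _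
      (mkFiber _ _ (Push.algPoint Z z) (Category.comp_id _)) m (by rw [hm, map_zero])
  exact hinj.bijective_of_nat_card_le (Nat.card_congr e').le

/-- The cohomology in degree zero of a geometric point. -/
def hField (M : AddCommGrpCat.{u + 1}) (Ω : Type u) [Field Ω] [IsSepClosed Ω] :
    EtCoh.H (Spec (CommRingCat.of Ω)) (cst (Spec (CommRingCat.of Ω)) M) 0 ≃ M :=
  (Sheaf.H.equiv₀ _ (EtCore.topIsTerminal _)).toEquiv.trans
    (Equiv.ofBijective _ (by
      haveI : IsSepClosed (IsLocalRing.ResidueField Ω) :=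
        Sections.isSepClosed_of_ringEquiv (RingEquiv.ofBijective (IsLocalRing.residue Ω)
          ⟨RingHom.injective _, IsLocalRing.residue_surjective⟩)
      exact LCStrict50.Const.csec_bijective Ω M)).symm

/-- Restriction along an integral universal homeomorphism. -/
theorem hHomeo {A B : Scheme.{u}} (m : A ⟶ B) [IsIntegralHom m] [UniversallyInjective m]
    [Surjective m] (M : AddCommGrpCat.{u + 1}) (q : ℕ) :
    Nonempty (EtCoh.H B (cst B M) q ≃ EtCoh.H A (cst A M) q) := by
  haveI : PreservesFiniteLimits (EtCoh.pull m) := EtSite.Pull.preservesFiniteLimits_pull m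
  exact ⟨(Equiv.ofBijective _ (S0642.result m (cst B M) q)).trans (hIso (Gen50.Const.iso m M) q).symm⟩

theorem isLTorsion_push_cst {A B : Scheme.{u}} (i : A ⟶ B) [QuasiCompact i] [QuasiSeparated i]
    (L : Set ℕ) (ℓ : ℕ) (hℓ : EtAcyc.PrimesIn L ℓ) (M : AddCommGrpCat.{u + 1})
    (hM : ∀ m : M, ℓ • m = 0) : EtAcyc.IsLTorsion L ((EtCoh.push i).obj (cst A M)) := by
  intro U s x
  refine ⟨U, 𝟙 U, ℓ, ⟨x, rfl⟩, hℓ, ?_⟩
  rw [op_id, CategoryTheory.Functor.map_id]
  change ℓ • (show EtCoh.sect (cst A M) ((EtCoh.bc i).obj U) from s) = 0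
  let F := cst A M
  have hS := Presheaf.imageSieve_mem A.smallEtaleTopology
    (toSheafify A.smallEtaleTopology ((Functor.const _).obj M)) (U := op ((EtCoh.bc i).obj U)) s
  refine (((isSheaf_iff_isSheaf_of_type _ _).1 (Presheaf.isSheaf_comp_of_isSheaf _ F.obj
    (forget AddCommGrpCat.{u + 1}) F.property)) _ hS).isSeparatedFor.ext ?_
  rintro W w ⟨m, hm⟩
  change F.obj.map w.op (ℓ • _) = F.obj.map w.op (0 : EtCoh.sect F _)
  rw [map_nsmul, map_zero]
  refine (congrArg (ℓ • ·) hm.symm).trans ?_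
  change ℓ • csec M W m = 0
  rw [← map_nsmul, hM, map_zero]

section Stalks

variable {X Y Z : Scheme.{u}} (g : X ⟶ Y) [QuasiCompact g] [QuasiSeparated g] (i : Z ⟶ Y)
  [IsFinite i] {Ω : Type u} [Field Ω] [IsSepClosed Ω] (η : Spec (CommRingCat.of Ω) ⟶ Y)
  (M : AddCommGrpCat.{u + 1})

/-- The projection of the fibre over the strictly local scheme. -/
abbrev bT : pullback g (Limit.σ η) ⟶ Y := pullback.fst g (Limit.σ η) ≫ g

/-- The closed part of the fibre over the strictly local scheme. -/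
abbrev ZT : Scheme.{u} := pullback i (bT g η)

theorem hClosed (q : ℕ) :
    Nonempty (EtCoh.H (pullback g (Limit.σ η))
      ((EtCoh.pull (bT g η)).obj ((EtCoh.push i).obj (cst Z M))) q ≃
        EtCoh.H (ZT g i η) (cst (ZT g i η) M) q) := by
  have sq : IsPullback (pullback.fst i (bT g η)) (pullback.snd i (bT g η)) i (bT g η) :=
    IsPullback.of_hasPullback _ _
  haveI := S0621.result i (bT g η) _ _ sq (cst Z M)
  haveI : PreservesFiniteLimits (EtCoh.pull (pullback.snd i (bT g η))) :=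
    inferInstance
  haveI : IsFinite (pullback.snd i (bT g η)) := MorphismProperty.pullback_snd _ _ inferInstance
  exact ⟨(hIso (asIso (EtCoh.baseChange0 i (bT g η) _ _ sq.w (cst Z M))) q).trans
    ((Equiv.ofBijective _ (S14451.result (pullback.snd i (bT g η)) _
      (fun p hp => Push.isZero_Rpush _ _ p hp) q)).trans
      (hIso (Gen50.Const.iso (pullback.fst i (bT g η)) M) q).symm)⟩

/-- The stalk of a higher direct image of an inverse image. -/
theorem hStalk (G : EtCoh.Ab Y) (q : ℕ) :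
    Nonempty (((EtCoh.stalk η).obj ((EtCoh.Rpush g q).obj ((EtCoh.pull g).obj G)) : Type (u + 1)) ≃
      EtCoh.H (pullback g (Limit.σ η)) ((EtCoh.pull (bT g η)).obj G) q) := by
  obtain ⟨e⟩ := RpushStalk50.Main.nonempty_iso g η (c := Limit.cone g η) (pullback.fst g (Limit.σ η))
    (Limit.cone_hq g η) (LocAcyc50.Main.hcpt g η) (LocAcyc50.Main.hqs g η) (Limit.isLimitCone g η) q
  exact ⟨((e.app ((EtCoh.pull g).obj G)).addCommGroupIsoToAddEquiv.toEquiv).trans
    (hIso ((LocAcyc50.Main.b₁ g η).app G) q)⟩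

theorem hPush :
    Nonempty (((EtCoh.stalk η).obj ((EtCoh.push i).obj (cst Z M)) : Type (u + 1)) ≃
      EtCoh.H (pullback i (Limit.σ η)) (cst (pullback i (Limit.σ η)) M) 0) := by
  haveI : PreservesLimitsOfSize.{0, 0} (EtCoh.push i) :=
    (EtCoh.pullPushAdj i).rightAdjoint_preservesLimits
  obtain ⟨e⟩ := RpushStalk50.Main.nonempty_iso i η (c := Limit.cone i η) (pullback.fst i (Limit.σ η))
    (Limit.cone_hq i η) (LocAcyc50.Main.hcpt i η) (LocAcyc50.Main.hqs i η) (Limit.isLimitCone i η) 0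
  exact ⟨(((EtCoh.stalk η).mapIso ((EtCoh.push i).rightDerivedZeroIsoSelf.app (cst Z M)).symm) ≪≫
      e.app (cst Z M)).addCommGroupIsoToAddEquiv.toEquiv.trans
    (hIso (Gen50.Const.iso (pullback.fst i (Limit.σ η)) M) 0).symm⟩

theorem hZT {L : Set ℕ} {n : ℕ} (hg : EtAcyc.IsAcyclicN g L n)
    (hT : EtAcyc.IsLTorsion L ((EtCoh.push i).obj (cst Z M))) :
    Nonempty (EtCoh.H (ZT g i η) (cst (ZT g i η) M) 0 ≃
      EtCoh.H (pullback i (Limit.σ η)) (cst (pullback i (Limit.σ η)) M) 0) ∧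
      ∀ q, 1 ≤ q → q ≤ n → Subsingleton (EtCoh.H (ZT g i η) (cst (ZT g i η) M) q) := by
  have hl : AcyclicCrit.LocComp g L n := fun W =>
    ⟨pullback W.hom g, pullback.snd W.hom g, pullback.fst W.hom g,
      (IsPullback.of_hasPullback W.hom g).flip, hg W⟩
  refine ⟨?_, fun q h1 h2 => ?_⟩
  · haveI : PreservesLimitsOfSize.{0, 0} (EtCoh.push g) :=
      (EtCoh.pullPushAdj g).rightAdjoint_preservesLimits
    haveI := AcyclicCrit.isIso_unit hl _ hT
    obtain ⟨e₁⟩ := hClosed g i η M 0
    obtain ⟨e₂⟩ := hStalk g η ((EtCoh.push i).obj (cst Z M)) 0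
    obtain ⟨e₃⟩ := hPush i η M
    exact ⟨e₁.symm.trans (e₂.symm.trans ((((EtCoh.stalk η).mapIso
      ((EtCoh.push g).rightDerivedZeroIsoSelf.app _ ≪≫
        (asIso ((EtCoh.pullPushAdj g).unit.app ((EtCoh.push i).obj (cst Z M)))).symm)).addCommGroupIsoToAddEquiv.toEquiv).trans e₃))⟩
  · obtain ⟨e₁⟩ := hClosed g i η M q
    obtain ⟨e₂⟩ := hStalk g η ((EtCoh.push i).obj (cst Z M)) q
    haveI := AddCommGrpCat.subsingleton_of_isZero
      ((EtCoh.stalk η).map_isZero (AcyclicCrit.isZero_Rpush hl q h1 h2 _ hT))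
    exact (e₂.symm.trans (Equiv.refl _) |>.subsingleton) |> fun h => @Equiv.subsingleton _ _ e₁.symm h

end Stalks

theorem exists_lift_point (Y : Scheme.{u}) (y : Y) (k : Type u) [Field k] [IsSepClosed k]
    (η : Spec (CommRingCat.of k) ⟶ Y) (hy : ∀ z, η.base z = y) (hpt : IsClosedImmersion (Limit.pt η))
    (hs : ∀ s : ↥(Nbhds.S Y η), (Limit.σ η).base s ∈ closure ({y} : Set Y) → s = (Limit.pt η).base default) :
    ∃ (Z : Scheme.{u}) (i : Z ⟶ Y) (_ : IsFinite i)
      (a : Spec (CommRingCat.of k) ⟶ pullback i (Limit.σ η)),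
      IsClosedImmersion a ∧ Surjective a ∧ a ≫ pullback.snd i (Limit.σ η) ≫ Limit.σ η = η := by
  obtain ⟨Z, i, _, hrange⟩ : ∃ (Z : Scheme.{u}) (i : Z ⟶ Y), IsClosedImmersion i ∧
      Set.range i.base = closure ({y} : Set Y) :=
    ⟨_, (Scheme.IdealSheafData.vanishingIdeal (X := Y) ⟨closure {y}, isClosed_closure⟩).subschemeι,
      inferInstance, by rw [Scheme.IdealSheafData.range_subschemeι]; rfl⟩
  haveI : Surjective (pullback.snd i η) := ⟨fun z => by
    obtain ⟨w, hw⟩ : y ∈ Set.range i.base := by rw [hrange]; exact subset_closure rfl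
    obtain ⟨p, -, hp⟩ := Scheme.Pullback.exists_preimage_pullback (f := i) (g := η) w z (hw.trans (hy z).symm)
    exact ⟨p, hp⟩⟩
  haveI : IsClosedImmersion (pullback.snd i η) := MorphismProperty.pullback_snd _ _ inferInstance
  haveI : IsIso (pullback.snd i η) := isIso_of_isClosedImmersion_of_surjective _
  let x := inv (pullback.snd i η) ≫ pullback.fst i η
  have hx : x ≫ i = η := by
    simp only [x, Category.assoc, pullback.condition, IsIso.inv_hom_id_assoc]
  let a : Spec (CommRingCat.of k) ⟶ pullback i (Limit.σ η) :=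
    pullback.lift x (Limit.pt η) (hx.trans (Limit.pt_σ η).symm)
  have ha : a ≫ pullback.snd i (Limit.σ η) = Limit.pt η := pullback.lift_snd _ _ _
  haveI : IsClosedImmersion (a ≫ pullback.snd i (Limit.σ η)) := ha ▸ hpt
  haveI : IsClosedImmersion a := IsClosedImmersion.of_comp a (pullback.snd i (Limit.σ η))
  refine ⟨Z, i, inferInstance, a, inferInstance, ⟨fun w => ?_⟩, ?_⟩
  · have h2 := hs ((pullback.snd i (Limit.σ η)).base w) (by
      rw [← hrange]
      exact ⟨(pullback.fst i (Limit.σ η)).base w,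
        congrArg (fun q => q.base w) (pullback.condition (f := i) (g := Limit.σ η))⟩)
    haveI : IsClosedImmersion (pullback.snd i (Limit.σ η)) := MorphismProperty.pullback_snd _ _ inferInstance
    exact ⟨default, (pullback.snd i (Limit.σ η)).isClosedEmbedding.injective
      ((congrArg (fun q => q.base default) ha).trans h2.symm)⟩
  · rw [reassoc_of% ha, Limit.pt_σ]

set_option maxHeartbeats 400000 in
theorem exists_point (Y : Scheme.{u}) (y : Y) (Ω : Type u) [Field Ω] [IsSepClosed Ω]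
    [Algebra (Y.residueField y) Ω] [Algebra.IsAlgebraic (Y.residueField y) Ω] :
    ∃ (Z : Scheme.{u}) (i : Z ⟶ Y) (_ : IsFinite i) (k : Type u) (_ : Field k) (_ : IsSepClosed k)
      (η : Spec (CommRingCat.of k) ⟶ Y) (ρ : Spec (CommRingCat.of Ω) ⟶ pullback i (Limit.σ η)),
      IsIntegralHom ρ ∧ UniversallyInjective ρ ∧ Surjective ρ ∧
        ρ ≫ pullback.snd i (Limit.σ η) ≫ Limit.σ η = EtAcyc.geomPt Y y Ω := by
  obtain ⟨R, _, _, _, _, hR⟩ := S0537.result (Y.presheaf.stalk y)
  haveI := hR.henselian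
  haveI := hR.isSepClosure.sep_closed
  letI : Algebra (Y.residueField y) (IsLocalRing.ResidueField R) :=
    inferInstanceAs (Algebra (IsLocalRing.ResidueField (Y.presheaf.stalk y)) (IsLocalRing.ResidueField R))
  let k := IsLocalRing.ResidueField R
  haveI : IsSepClosed k := hR.isSepClosure.sep_closed
  haveI : Algebra.IsSeparable (Y.residueField y) k := hR.isSepClosure.separable
  let η := Hens2.geomPt Y y R
  let f : k →ₐ[Y.residueField y] Ω := IsSepClosed.lift
  algebraize [f.toRingHom]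
  haveI : IsScalarTower (Y.residueField y) k Ω := IsScalarTower.of_algebraMap_eq fun x => (f.commutes x).symm
  haveI : Algebra.IsAlgebraic k Ω := Algebra.IsAlgebraic.tower_top (K := Y.residueField y) k
  haveI : IsPurelyInseparable k Ω := inferInstance
  let φ : Spec (CommRingCat.of Ω) ⟶ Spec (CommRingCat.of k) :=
    Spec.map (CommRingCat.ofHom (algebraMap k Ω))
  haveI : IsIntegralHom φ := IsIntegralHom.SpecMap_iff.2 (Algebra.IsAlgebraic.isIntegral (K := k) (A := Ω)).1
  haveI : UniversallyInjective φ := (tfae_universallyInjective φ).out 0 1 |>.2 fun K hK a b hab => by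
    letI := hK
    obtain ⟨a, rfl⟩ := Spec.map_surjective a
    obtain ⟨b, rfl⟩ := Spec.map_surjective b
    simp only [φ, ← Spec.map_comp] at hab
    refine congrArg Spec.map (CommRingCat.hom_ext (IsPurelyInseparable.injective_comp_algebraMap k Ω K ?_))
    exact CommRingCat.hom_ext_iff.1 (Spec.map_injective hab)
  haveI : Surjective φ := ⟨fun z => ⟨default, Subsingleton.elim _ _⟩⟩
  have hη : η = Spec.map (CommRingCat.ofHom (algebraMap (Y.residueField y) k)) ≫ Y.fromSpecResidueField y := by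
    simp only [η, Hens2.geomPt, Hens2.specOf, Scheme.fromSpecResidueField, ← Category.assoc, ← Spec.map_comp]
    rfl
  haveI := RpushStalk50.Ident.isIso_ι Y y R
  have hpt : IsClosedImmersion (Limit.pt η) := by
    rw [← RpushStalk50.Ident.cpt_ι Y y R]
    haveI : IsClosedImmersion (RpushStalk50.Ident.cpt R) :=
      IsClosedImmersion.spec_of_surjective _ IsLocalRing.residue_surjective
    infer_instance
  have hy : ∀ z, η.base z = y := by
    intro z; rw [hη, Scheme.Hom.comp_apply]; apply Scheme.fromSpecResidueField_apply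
  have hs : ∀ s : ↥(Nbhds.S Y η), (Limit.σ η).base s ∈ closure ({y} : Set Y) →
      s = (Limit.pt η).base default := by
    intro s h1
    obtain ⟨r, hr⟩ := (RpushStalk50.Ident.ι Y y R).surjective s
    rw [← hr] at h1 ⊢
    rw [← RpushStalk50.Ident.cpt_ι Y y R]
    refine congrArg _ (Eq.trans ?_ (RpushStalk50.Ident.cpt_base R).symm)
    rw [← Scheme.Hom.comp_apply, RpushStalk50.Ident.ι_σ, Hens2.specOf, Scheme.Hom.comp_apply] at h1
    let q := (Spec.map (CommRingCat.ofHom (algebraMap (Y.presheaf.stalk y) R))).base r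
    have h3 : IsLocalRing.closedPoint (Y.presheaf.stalk y) ⤳ q :=
      (Y.fromSpecStalk y).isEmbedding.isInducing.specializes_iff.1
        ((specializes_of_eq (Scheme.fromSpecStalk_closedPoint (X := Y) (x := y))).trans
          (specializes_iff_mem_closure.2 h1))
    have h4 : IsLocalRing.maximalIdeal (Y.presheaf.stalk y) ≤ r.asIdeal.comap (algebraMap _ R) :=
      (PrimeSpectrum.le_iff_specializes _ _).2 h3
    apply PrimeSpectrum.ext
    refine ((IsLocalRing.maximalIdeal.isMaximal R).eq_of_le r.2.ne_top ?_).symm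
    rw [← Henselian.StrictHenselization.map_maximalIdeal (Y.presheaf.stalk y) R]
    exact Ideal.map_le_iff_le_comap.2 h4
  obtain ⟨Z, i, _, a, _, _, ha⟩ := exists_lift_point Y y k η hy hpt hs
  refine ⟨Z, i, inferInstance, k, inferInstance, inferInstance, η, φ ≫ a,
    inferInstance, MorphismProperty.comp_mem @UniversallyInjective φ a ‹_› inferInstance, inferInstance, ?_⟩
  rw [Category.assoc, ha, hη, EtAcyc.geomPt, ← Category.assoc, ← Spec.map_comp]
  congr 2
  exact CommRingCat.hom_ext (IsScalarTower.algebraMap_eq _ k Ω).symm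

/-- Geometric fibres of acyclic morphisms are acyclic. -/
theorem main {X Y : Scheme.{u}} (g : X ⟶ Y) [QuasiCompact g] [QuasiSeparated g]
    (L : Set ℕ) (hL : ∃ ℓ ∈ L, ℓ.Prime) (n : ℕ) (hg : EtAcyc.IsAcyclicN g L n) :
    EtAcyc.GeomFibresAcyclicN L n g := by
  intro y Ω _ _ _ _
  obtain ⟨Z, i, _, k, _, _, η, ρ, _, _, _, hρ⟩ := exists_point Y y Ω
  let r : ZT g i η ⟶ pullback i (Limit.σ η) :=
    pullback.map i (bT g η) i (Limit.σ η) (𝟙 _) (pullback.snd g (Limit.σ η)) (𝟙 _) (by simp)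
      (by simp [bT, pullback.condition])
  have sq₁ : IsPullback r (pullback.snd i (bT g η)) (pullback.snd i (Limit.σ η))
      (pullback.snd g (Limit.σ η)) := by
    refine IsPullback.of_right ?_ (pullback.lift_snd _ _ _) (IsPullback.of_hasPullback i (Limit.σ η))
    rw [pullback.lift_fst, Category.comp_id, ← pullback.condition]
    exact IsPullback.of_hasPullback i (bT g η)
  have sq₂ : IsPullback (pullback.fst r ρ ≫ pullback.snd i (bT g η) ≫ pullback.fst g (Limit.σ η))
      (pullback.snd r ρ) g (EtAcyc.geomPt Y y Ω) := by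
    rw [← hρ]
    exact (IsPullback.of_hasPullback r ρ).paste_horiz
      ((sq₁.flip).paste_horiz (IsPullback.of_hasPullback g (Limit.σ η)))
  let e : (pullback g (EtAcyc.geomPt Y y Ω) : Scheme.{u}) ≅ pullback r ρ := sq₂.isoPullback.symm
  let m := e.hom ≫ pullback.fst r ρ
  haveI : IsIntegralHom (pullback.fst r ρ) := MorphismProperty.pullback_fst _ _ inferInstance
  haveI : UniversallyInjective (pullback.fst r ρ) := MorphismProperty.pullback_fst _ _ inferInstance
  haveI : Surjective (pullback.fst r ρ) := MorphismProperty.pullback_fst _ _ inferInstance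
  haveI : UniversallyInjective m :=
    MorphismProperty.comp_mem @UniversallyInjective e.hom (pullback.fst r ρ) inferInstance inferInstance
  have key : ∀ ℓ : ℕ, ℓ.Prime → ℓ ∈ L →
      let M := AddCommGrpCat.of (ULift.{u + 1} (ZMod ℓ))
      Nonempty (EtCoh.H (pullback g (EtAcyc.geomPt Y y Ω)) (cst _ M) 0 ≃ M) ∧
        ∀ q, 1 ≤ q → q ≤ n → Subsingleton (EtCoh.H (pullback g (EtAcyc.geomPt Y y Ω)) (cst _ M) q) := by
    intro ℓ hℓ hℓL M
    have hT := isLTorsion_push_cst i L ℓ ⟨hℓ.pos, fun p hp hd => ((Nat.prime_dvd_prime_iff_eq hp hℓ).1 hd) ▸ hℓL⟩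
      M (fun x => ULift.ext _ _ (by simp))
    obtain ⟨⟨e₁⟩, hq⟩ := hZT g i η M hg hT
    obtain ⟨e₂⟩ := hHomeo m M 0
    obtain ⟨e₃⟩ := hHomeo ρ M 0
    refine ⟨⟨e₂.symm.trans (e₁.trans (e₃.trans (hField M Ω)))⟩, fun q h1 h2 => ?_⟩
    obtain ⟨e₄⟩ := hHomeo m M q
    exact @Equiv.subsingleton _ _ e₄.symm (hq q h1 h2)
  obtain ⟨ℓ, hℓL, hℓ⟩ := hL
  haveI : Fact ℓ.Prime := ⟨hℓ⟩
  obtain ⟨e₀⟩ := (key ℓ hℓ hℓL).1
  have hM : ∃ x : ULift.{u + 1} (ZMod ℓ), x ≠ 0 := ⟨⟨1⟩, fun h => one_ne_zero (congrArg ULift.down h)⟩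
  haveI : Finite (AddCommGrpCat.of (ULift.{u + 1} (ZMod ℓ))) := inferInstanceAs (Finite (ULift (ZMod ℓ)))
  obtain ⟨h1, h2⟩ := connected_of_csec _ hM (csec_bijective_of_card _ hM e₀)
  exact ⟨h1, h2, fun p hp hpL q hq hqn => (key p hp hpL).2 q hq hqn⟩

end Groth.Agent.Lib.GeomFib50.Main
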